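import Mathlib.Algebra.Homology.DerivedCategory.Ext.ExactSequences
import Mathlib.Algebra.Homology.DerivedCategory.TStructure
import Mathlib.Algebra.Homology.DerivedCategory.FullyFaithful
import Mathlib.CategoryTheory.Triangulated.TStructure.TruncLTGE

/-! An extension class is realised by an extension, compatibly with a given pullback. -/

set_option autoImplicit false
universe w' w v u

open CategoryTheory Limits Abelian DerivedCategory Pretriangulated

namespace Groth.Agent.BlendExt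

variable {C : Type u} [Category.{v} C] [Abelian C] [HasExt.{w} C]

set_option backward.isDefEq.respectTransparency.types false in
set_option backward.defeqAttrib.useBackward true in
theorem exists_over {S : ShortComplex C} (hS : S.ShortExact) {E : C} (c : S.X₃ ⟶ E) (ξ : Ext.{w} E S.X₁ 1)
    (h : (Ext.mk₀ c).comp ξ (zero_add 1) = hS.extClass) :
    ∃ (X : C) (p₀ : S.X₁ ⟶ X) (q : X ⟶ E) (w : p₀ ≫ q = 0) (i : S.X₂ ⟶ X),
      (ShortComplex.mk p₀ q w).ShortExact ∧ S.f ≫ i = p₀ ∧ i ≫ q = S.g ≫ c := by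
  letI := HasDerivedCategory.standard C
  let Φ : C ⥤ DerivedCategory C := singleFunctor C 0
  let δ : Φ.obj E ⟶ (Φ.obj S.X₁)⟦(1 : ℤ)⟧ := ξ.hom
  obtain ⟨Z, f, g, hT⟩ := distinguished_cocone_triangle₂ δ
  haveI : TStructure.t.IsLE Z 0 := TStructure.t.isLE₂ _ hT 0
    (inferInstanceAs (((singleFunctor C 0).obj S.X₁).IsLE 0)) (inferInstanceAs (((singleFunctor C 0).obj E).IsLE 0))
  haveI : TStructure.t.IsGE Z 0 := TStructure.t.isGE₂ _ hT 0
    (inferInstanceAs (((singleFunctor C 0).obj S.X₁).IsGE 0)) (inferInstanceAs (((singleFunctor C 0).obj E).IsGE 0))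
  obtain ⟨X, ⟨e⟩⟩ := DerivedCategory.exists_iso_singleFunctor_obj_of_isGE_of_isLE Z 0
  let p₀ : S.X₁ ⟶ X := Φ.preimage (f ≫ e.hom)
  let q : X ⟶ E := Φ.preimage (e.inv ≫ g)
  have hT' : Triangle.mk (Φ.map p₀) (Φ.map q) δ ∈ distTriang (DerivedCategory C) := by
    refine isomorphic_distinguished _ hT _ (Triangle.isoMk _ _ (Iso.refl _) e.symm (Iso.refl _) ?_ ?_ ?_)
    · simp [p₀, Φ]
    · simp [q, Φ]
    · simp
  have hw : p₀ ≫ q = 0 := Φ.map_injective (by
    rw [Functor.map_comp, Functor.map_zero]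
    exact comp_distTriang_mor_zero₁₂ _ hT')
  have hmono : Mono p₀ := by
    refine Preadditive.mono_of_cancel_zero _ fun {T} t ht => Φ.map_injective ?_
    obtain ⟨g', hg'⟩ := Triangle.coyoneda_exact₂ _ (inv_rot_of_distTriang _ hT') (Φ.map t) (by
      show Φ.map t ≫ Φ.map p₀ = 0
      rw [← Functor.map_comp, ht, Functor.map_zero])
    rw [Functor.map_zero, hg']
    haveI : TStructure.t.IsGE ((Φ.obj E)⟦(-1 : ℤ)⟧) 1 :=
      haveI : TStructure.t.IsGE (Φ.obj E) 0 := inferInstanceAs (((singleFunctor C 0).obj E).IsGE 0)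
      TStructure.t.isGE_shift (Φ.obj E) 0 (-1) 1 (by lia)
    haveI : TStructure.t.IsLE (Φ.obj T) 0 := inferInstanceAs (((singleFunctor C 0).obj T).IsLE 0)
    rw [TStructure.t.zero_of_isLE_of_isGE g' 0 1 (by lia) ‹TStructure.t.IsLE (Φ.obj T) 0› ‹TStructure.t.IsGE ((Φ.obj E)⟦(-1 : ℤ)⟧) 1›, zero_comp]
    rfl
  have hepi : Epi q := by
    refine Preadditive.epi_of_cancel_zero _ fun {T} t ht => Φ.map_injective ?_
    obtain ⟨g', hg'⟩ := Triangle.yoneda_exact₃ _ hT' (Φ.map t) (by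
      show Φ.map q ≫ Φ.map t = 0
      rw [← Functor.map_comp, ht, Functor.map_zero])
    rw [Functor.map_zero, hg']
    haveI : TStructure.t.IsLE ((Φ.obj S.X₁)⟦(1 : ℤ)⟧) (-1) :=
      haveI : TStructure.t.IsLE (Φ.obj S.X₁) 0 := inferInstanceAs (((singleFunctor C 0).obj S.X₁).IsLE 0)
      TStructure.t.isLE_shift (Φ.obj S.X₁) 0 1 (-1) (by lia)
    haveI : TStructure.t.IsGE (Φ.obj T) 0 := inferInstanceAs (((singleFunctor C 0).obj T).IsGE 0)
    rw [TStructure.t.zero_of_isLE_of_isGE g' (-1) 0 (by lia) ‹TStructure.t.IsLE ((Φ.obj S.X₁)⟦(1 : ℤ)⟧) (-1)› ‹TStructure.t.IsGE (Φ.obj T) 0›, comp_zero]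
    rfl
  have hex : (ShortComplex.mk p₀ q hw).Exact := by
    rw [ShortComplex.exact_iff_exact_up_to_refinements]
    intro T t ht
    obtain ⟨g', hg'⟩ := Triangle.coyoneda_exact₂ _ hT' (Φ.map t) (by
      show Φ.map t ≫ Φ.map q = 0
      rw [← Functor.map_comp]
      exact (congrArg Φ.map ht).trans (Functor.map_zero _ _ _))
    refine ⟨T, 𝟙 T, inferInstance, Φ.preimage g', Φ.map_injective ?_⟩
    rw [Category.id_comp, Functor.map_comp, Functor.map_preimage]
    exact hg'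
  have hδ : hS.singleδ = Φ.map c ≫ δ := by
    rw [← hS.extClass_hom, ← h]
    simp only [δ, Φ, Ext.comp_hom, Ext.mk₀_hom]
    exact ShiftedHom.mk₀_comp _ _ _ _
  obtain ⟨m, hm₁, hm₂⟩ := complete_distinguished_triangle_morphism₂ hS.singleTriangle _
    hS.singleTriangle_distinguished hT' (𝟙 _) (Φ.map c) (by
      show hS.singleδ ≫ (𝟙 (Φ.obj S.X₁))⟦(1 : ℤ)⟧' = Φ.map c ≫ δ
      rw [CategoryTheory.Functor.map_id, Category.comp_id, hδ])
  refine ⟨X, p₀, q, hw, Φ.preimage m, ShortComplex.ShortExact.mk' hex hmono hepi, Φ.map_injective ?_,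
    Φ.map_injective ?_⟩
  · rw [Functor.map_comp, Functor.map_preimage]
    exact hm₁.trans (Category.id_comp _)
  · rw [Functor.map_comp, Functor.map_comp, Functor.map_preimage]
    exact hm₂.symm

end Groth.Agent.BlendExt
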